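import Cfsg.Agent.Lib.Theta.Poisson

/-!
# The theta series of an even unimodular lattice of rank 24
-/

set_option autoImplicit false
set_option linter.all false

noncomputable section

namespace Cfsg.Agent.Theta

open Complex Matrix
open UpperHalfPlane hiding I
open scoped Real MatrixGroups ModularForm Manifold MatrixOrder

variable {n : ℕ}

/-- The quadratic form. -/
def qZ (B : Matrix (Fin n) (Fin n) ℤ) (x : Fin n → ℤ) : ℤ := x ⬝ᵥ (B *ᵥ x)

theorem qR_castVec {B : Matrix (Fin n) (Fin n) ℤ} {C : Matrix (Fin n) (Fin n) ℝ}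
    (hBC : B.map (Int.cast : ℤ → ℝ) = Cᵀ * C) (x : Fin n → ℤ) :
    qR C (castVec x) = (qZ B x : ℝ) := by
  have h : (qZ B x : ℝ) = castVec x ⬝ᵥ (B.map (Int.cast : ℤ → ℝ) *ᵥ castVec x) := by
    simp [qZ, dotProduct, Matrix.mulVec, castVec]
  rw [h, hBC, ← Matrix.mulVec_mulVec, Matrix.dotProduct_mulVec, Matrix.vecMul_transpose]
  simp [qR, dotProduct, sq]

theorem exists_factor {B : Matrix (Fin n) (Fin n) ℤ} (hsymm : B.IsSymm)
    (hpos : ∀ x : Fin n → ℤ, 0 ≤ qZ B x) :
    ∃ C : Matrix (Fin n) (Fin n) ℝ, B.map (Int.cast : ℤ → ℝ) = Cᵀ * C := by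
  set A : Matrix (Fin n) (Fin n) ℝ := B.map (Int.cast : ℤ → ℝ) with hA
  have hclosed : IsClosed {v : Fin n → ℝ | 0 ≤ v ⬝ᵥ (A *ᵥ v)} :=
    isClosed_le continuous_const (by fun_prop)
  have hrat : ∀ w : Fin n → ℚ, (fun i => (w i : ℝ)) ∈ {v : Fin n → ℝ | 0 ≤ v ⬝ᵥ (A *ᵥ v)} := by
    intro w
    set N : ℕ := ∏ i, (w i).den with hN
    have hN0 : (0 : ℝ) < N := by
      exact_mod_cast Finset.prod_pos fun i _ => (w i).den_pos
    have hx : ∀ i, ∃ m : ℤ, (m : ℝ) = N * (w i : ℝ) := fun i => by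
      obtain ⟨k, hk⟩ : (w i).den ∣ N := Finset.dvd_prod_of_mem _ (Finset.mem_univ i)
      refine ⟨(w i).num * k, ?_⟩
      rw [hk, Rat.cast_def]
      push_cast
      field_simp
    choose x hx using hx
    have h1 : (fun i => (w i : ℝ)) = (N : ℝ)⁻¹ • castVec x := by
      funext i
      simp [castVec, hx i, inv_mul_cancel_left₀ hN0.ne']
    have h2 : (0 : ℝ) ≤ castVec x ⬝ᵥ (A *ᵥ castVec x) := by
      have h : castVec x ⬝ᵥ (A *ᵥ castVec x) = (qZ B x : ℝ) := by
        simp [hA, qZ, dotProduct, Matrix.mulVec, castVec]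
      rw [h]
      exact_mod_cast hpos x
    rw [Set.mem_setOf_eq, h1, Matrix.mulVec_smul, dotProduct_smul, smul_dotProduct, smul_eq_mul,
      smul_eq_mul]
    positivity
  have hnn : ∀ v : Fin n → ℝ, 0 ≤ v ⬝ᵥ (A *ᵥ v) := fun v =>
    (DenseRange.piMap fun _ : Fin n => Rat.denseRange_cast).induction_on
      (p := fun v => 0 ≤ v ⬝ᵥ (A *ᵥ v)) v hclosed fun w => hrat w
  have hps : A.PosSemidef := Matrix.PosSemidef.of_dotProduct_mulVec_nonneg
    (by rw [Matrix.IsHermitian, Matrix.conjTranspose_eq_transpose_of_trivial, hA,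
      ← Matrix.transpose_map, hsymm.eq])
    (fun v => by simpa using hnn v)
  obtain ⟨C, hC⟩ := CStarAlgebra.nonneg_iff_eq_star_mul_self.mp hps.nonneg
  exact ⟨C, by rw [hC, Matrix.star_eq_conjTranspose, Matrix.conjTranspose_eq_transpose_of_trivial]⟩

theorem summable_rexp_qZ {B : Matrix (Fin n) (Fin n) ℤ} {C : Matrix (Fin n) (Fin n) ℝ}
    (hBC : B.map (Int.cast : ℤ → ℝ) = Cᵀ * C) (hC : C.det ≠ 0) {a : ℝ} (ha : 0 < a) :
    Summable fun x => Real.exp (-a * (qZ B x : ℝ)) := by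
  obtain ⟨c, hc, hle⟩ := exists_sq_le C hC
  refine Summable.of_nonneg_of_le (fun x => (Real.exp_pos _).le) (fun x => ?_)
    (summable_exp_neg_mul_sum_sq n (mul_pos ha hc))
  refine Real.exp_le_exp.mpr ?_
  rw [← qR_castVec hBC x]
  have := mul_le_mul_of_nonneg_left (hle (castVec x)) ha.le
  simp only [castVec] at this ⊢
  nlinarith [this]

/-- The theta series as a function on `ℂ`. -/
def thetaC (B : Matrix (Fin n) (Fin n) ℤ) (z : ℂ) : ℂ :=
  ∑' x : Fin n → ℤ, cexp (π * I * z * (qZ B x : ℂ))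

theorem norm_term (B : Matrix (Fin n) (Fin n) ℤ) (z : ℂ) (x : Fin n → ℤ) :
    ‖cexp (π * I * z * (qZ B x : ℂ))‖ = Real.exp (-(π * z.im) * (qZ B x : ℝ)) := by
  rw [Complex.norm_exp]
  simp [Complex.mul_re, Complex.mul_im]

section
variable {B : Matrix (Fin n) (Fin n) ℤ} {C : Matrix (Fin n) (Fin n) ℝ}
  (hBC : B.map (Int.cast : ℤ → ℝ) = Cᵀ * C) (hC : C.det ≠ 0) (hq : ∀ x, 0 ≤ qZ B x)

include hBC hC in
theorem summable_term {z : ℂ} (hz : 0 < z.im) :
    Summable fun x => cexp (π * I * z * (qZ B x : ℂ)) :=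
  .of_norm_bounded (summable_rexp_qZ hBC hC (mul_pos Real.pi_pos hz)) fun x => (norm_term B z x).le

include hBC hC hq in
theorem differentiableOn_thetaC :
    DifferentiableOn ℂ (thetaC B) UpperHalfPlane.upperHalfPlaneSet := by
  intro z hz
  have hz' : 0 < z.im := hz
  set U : Set ℂ := {w | z.im / 2 < w.im}
  have hU : IsOpen U := isOpen_lt continuous_const Complex.continuous_im
  have h : DifferentiableOn ℂ (thetaC B) U :=
    differentiableOn_tsum_of_summable_norm
      (summable_rexp_qZ hBC hC (mul_pos Real.pi_pos (half_pos hz'))) (fun x => by fun_prop) hU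
      fun x w hw => by
        rw [norm_term]
        refine Real.exp_le_exp.mpr ?_
        have h1 : (0 : ℝ) ≤ qZ B x := by exact_mod_cast hq x
        have h2 : z.im / 2 < w.im := hw
        nlinarith [mul_le_mul_of_nonneg_right h2.le (mul_nonneg Real.pi_pos.le h1)]
  exact (h.differentiableAt (hU.mem_nhds (show z.im / 2 < z.im by linarith))).differentiableWithinAt

include hBC hC in
theorem finite_fibre (m : ℤ) : {x : Fin n → ℤ | qZ B x = m}.Finite := by
  have h := (summable_rexp_qZ hBC hC one_pos).tendsto_cofinite_zero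
  have h2 := Filter.eventually_cofinite.mp (h.eventually (gt_mem_nhds (Real.exp_pos (-1 * (m : ℝ)))))
  exact h2.subset fun x hx => by
    rw [Set.mem_setOf_eq] at hx
    simp [hx]

include hBC hC hq in
theorem hasSum_qParam (heven : ∀ x, (2 : ℤ) ∣ qZ B x) (τ : ℍ) :
    HasSum (fun m : ℕ => (({x | qZ B x = 2 * (m : ℤ)}.ncard : ℂ)) •
      Function.Periodic.qParam (1 : ℝ) (τ : ℂ) ^ m) (thetaC B τ) := by
  classical
  set g : (Fin n → ℤ) → ℕ := fun x => (qZ B x / 2).toNat with hg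
  have hgm : ∀ x m, g x = m ↔ qZ B x = 2 * (m : ℤ) := fun x m => by
    obtain ⟨k, hk⟩ := heven x
    have := hq x
    simp only [hg]
    omega
  have h := (Equiv.sigmaFiberEquiv g).hasSum_iff.mpr (summable_term hBC hC τ.im_pos).hasSum
  refine h.sigma fun m => ?_
  haveI : Fintype {x // g x = m} :=
    ((finite_fibre hBC hC (2 * (m : ℤ))).subset fun x hx => (hgm x m).mp hx).fintype
  convert hasSum_fintype (fun x : {x // g x = m} =>
    cexp (π * I * (τ : ℂ) * (qZ B x.1 : ℂ))) using 1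
  · rfl
  rw [Finset.sum_congr rfl (g := fun _ => Function.Periodic.qParam (1 : ℝ) (τ : ℂ) ^ m) fun x _ => ?_]
  · rw [Finset.sum_const, Finset.card_univ, nsmul_eq_mul, smul_eq_mul, ← Nat.card_eq_fintype_card]
    congr 2
    exact (Nat.card_congr (Equiv.subtypeEquivRight fun x => hgm x m)).symm
  · rw [Function.Periodic.qParam, ← Complex.exp_nat_mul, (hgm x.1 m).mp x.2]
    push_cast
    congr 1
    ring

end

/-- The theta series of an even unimodular positive definite form of rank 24 as a modular form. -/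
def thetaForm (B : Matrix (Fin 24) (Fin 24) ℤ) (C : Matrix (Fin 24) (Fin 24) ℝ)
    (hBC : B.map (Int.cast : ℤ → ℝ) = Cᵀ * C) (hdet : B.det = 1)
    (heven : ∀ x, (2 : ℤ) ∣ qZ B x) : ModularForm 𝒮ℒ 12 :=
  have hC : |C.det| = 1 := by
    have h : (B.map (Int.cast : ℤ → ℝ)).det = (B.det : ℝ) := by
      exact ((Int.castRingHom ℝ).map_det B).symm
    rw [hBC, Matrix.det_mul, Matrix.det_transpose, hdet, Int.cast_one] at h
    rcases mul_self_eq_one_iff.mp h with h | h <;> simp [h]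
  have hC0 : C.det ≠ 0 := fun h => by simp [h] at hC
  have hq : ∀ x, 0 ≤ qZ B x := fun x => by
    have : (0 : ℝ) ≤ (qZ B x : ℝ) := qR_castVec hBC x ▸ Finset.sum_nonneg fun i _ => sq_nonneg _
    exact_mod_cast this
  have hgauss : ∀ (z : ℂ) (x : Fin 24 → ℤ),
      cexp (π * I * z * (qZ B x : ℂ)) = gauss C (-I * z) (castVec x) := fun z x => by
    rw [gauss, qR_castVec hBC x]
    push_cast
    congr 1
    ring
  have hS : (fun τ : ℍ => thetaC B τ) ∣[(12 : ℤ)] ModularGroup.S = fun τ : ℍ => thetaC B τ := by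
    funext z
    rw [ModularForm.SL_slash_apply, UpperHalfPlane.modular_S_smul]
    rw [ModularGroup.denom_S]
    show thetaC B ((-(z : ℂ))⁻¹) * (z : ℂ) ^ (-(12 : ℤ)) = thetaC B z
    have hz : (z : ℂ) ≠ 0 := z.ne_zero
    have h1 : 0 < (-I * (-(z : ℂ))⁻¹).re := by
      have := z.im_inv_neg_coe_pos
      simpa [Complex.mul_re] using this
    have hP := poisson B (by rw [hdet]; exact isUnit_one) C hBC hC _ h1
    rw [thetaC, tsum_congr (hgauss _), hP,
      show (1 : ℂ) / (-I * (-(z : ℂ))⁻¹) = -I * z by field_simp; linear_combination Complex.I_sq,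
      show ((24 : ℕ) : ℂ) / 2 = ((12 : ℕ) : ℂ) by norm_num, Complex.cpow_natCast,
      ← tsum_congr (hgauss _)]
    show (-I * (z : ℂ)) ^ 12 * thetaC B z * (z : ℂ) ^ (-(12 : ℤ)) = thetaC B z
    rw [mul_pow, show (-I) ^ 12 = 1 by rw [neg_pow, show I ^ 12 = (I ^ 2) ^ 6 by ring, Complex.I_sq]; norm_num,
      _root_.zpow_neg, show (12 : ℤ) = ((12 : ℕ) : ℤ) by norm_num, zpow_natCast]
    field_simp
  have hT : (fun τ : ℍ => thetaC B τ) ∣[(12 : ℤ)] ModularGroup.T = fun τ : ℍ => thetaC B τ := by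
    funext z
    rw [ModularForm.SL_slash_apply, UpperHalfPlane.modular_T_smul]
    have hden : denom (ModularGroup.T : SL(2, ℤ)) (z : ℂ) = 1 := by
      rw [ModularGroup.denom_apply]
      simp [ModularGroup.T]
    rw [hden, _root_.one_zpow, mul_one]
    show thetaC B (((1 : ℝ) +ᵥ z : ℍ) : ℂ) = thetaC B z
    rw [UpperHalfPlane.coe_vadd, thetaC, thetaC]
    refine tsum_congr fun x => ?_
    obtain ⟨k, hk⟩ := heven x
    rw [hk]
    rw [show (π : ℂ) * I * (((1 : ℝ) : ℂ) + z) * ((2 * k : ℤ) : ℂ) =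
        π * I * z * ((2 * k : ℤ) : ℂ) + (k : ℂ) * (2 * π * I) by push_cast; ring,
      Complex.exp_add, Complex.exp_int_mul_two_pi_mul_I, mul_one]
  { toFun := fun τ => thetaC B τ
    slash_action_eq' := fun A hA => by
      obtain ⟨A, rfl⟩ := hA
      exact SlashInvariantForm.slash_action_generators_SL2Z hS hT A
    holo' := by
      rw [UpperHalfPlane.mdifferentiable_iff]
      exact (differentiableOn_thetaC hBC hC0 hq).congr fun z hz => by
        simp [ofComplex_apply_of_im_pos hz]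
    bdd_at_cusps' := fun {c} hc => by
      rw [Subgroup.IsArithmetic.isCusp_iff_isCusp_SL2Z] at hc
      rw [OnePoint.isBoundedAt_iff_forall_SL2Z hc]
      intro γ _
      show IsBoundedAtImInfty ((fun τ : ℍ => thetaC B τ) ∣[(12 : ℤ)] γ)
      rw [SlashInvariantForm.slash_action_generators_SL2Z hS hT γ]
      exact UpperHalfPlane.isBoundedAtImInfty_of_hasSum_qExpansion one_pos
        (hasSum_qParam hBC hC0 hq heven) }

theorem coe_thetaForm (B : Matrix (Fin 24) (Fin 24) ℤ) (C : Matrix (Fin 24) (Fin 24) ℝ)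
    (hBC : B.map (Int.cast : ℤ → ℝ) = Cᵀ * C) (hdet : B.det = 1)
    (heven : ∀ x, (2 : ℤ) ∣ qZ B x) :
    ⇑(thetaForm B C hBC hdet heven) = fun τ : ℍ => thetaC B τ := rfl

end Cfsg.Agent.Theta
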