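import Mathlib

/-!
# Poisson summation for Gaussians on `ℤ^n`
-/

set_option autoImplicit false
set_option linter.all false

noncomputable section

namespace Cfsg.Agent.Theta

open Complex MeasureTheory Matrix
open scoped Real

variable {n : ℕ}

/-- The real quadratic form `|C v|²`. -/
def qR (C : Matrix (Fin n) (Fin n) ℝ) (v : Fin n → ℝ) : ℝ := ∑ i, (C *ᵥ v) i ^ 2

/-- The Gaussian attached to `C` and `t`. -/
def gauss (C : Matrix (Fin n) (Fin n) ℝ) (t : ℂ) (v : Fin n → ℝ) : ℂ :=
  cexp (-(π * t) * (qR C v : ℂ))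

/-- An integral vector as a real vector. -/
def castVec (x : Fin n → ℤ) : Fin n → ℝ := fun i => (x i : ℝ)

theorem exists_sq_le (C : Matrix (Fin n) (Fin n) ℝ) (hC : C.det ≠ 0) :
    ∃ c > (0 : ℝ), ∀ v, c * ∑ i, v i ^ 2 ≤ qR C v := by
  set K : ℝ := ∑ i, ∑ j, C⁻¹ i j ^ 2 + 1 with hK
  have hK0 : 0 < K := by positivity
  refine ⟨K⁻¹, inv_pos.mpr hK0, fun v => ?_⟩
  rw [inv_mul_le_iff₀ hK0]
  have hv : C⁻¹ *ᵥ (C *ᵥ v) = v := by
    rw [Matrix.mulVec_mulVec, Matrix.nonsing_inv_mul C (isUnit_iff_ne_zero.mpr hC),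
      Matrix.one_mulVec]
  have hq : 0 ≤ qR C v := Finset.sum_nonneg fun i _ => sq_nonneg _
  calc ∑ i, v i ^ 2 = ∑ i, (∑ j, C⁻¹ i j * (C *ᵥ v) j) ^ 2 := by
        conv_lhs => rw [← hv]
        rfl
    _ ≤ ∑ i, (∑ j, C⁻¹ i j ^ 2) * qR C v :=
        Finset.sum_le_sum fun i _ => Finset.sum_mul_sq_le_sq_mul_sq _ _ _
    _ ≤ K * qR C v := by
        rw [← Finset.sum_mul]
        exact mul_le_mul_of_nonneg_right (by linarith) hq

theorem summable_exp_neg_mul_int_sq {a : ℝ} (ha : 0 < a) :
    Summable fun m : ℤ => Real.exp (-a * (m : ℝ) ^ 2) := by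
  have h : Summable fun k : ℕ => Real.exp (-a * (k : ℝ) ^ 2) := by
    refine Summable.of_nonneg_of_le (fun k => (Real.exp_pos _).le) (fun k => ?_)
      (Real.summable_exp_nat_mul_iff.mpr (neg_lt_zero.mpr ha))
    apply Real.exp_le_exp.mpr
    rcases Nat.eq_zero_or_pos k with rfl | hk
    · simp
    · have : (1 : ℝ) ≤ k := by exact_mod_cast hk
      nlinarith [mul_le_mul_of_nonneg_left this (mul_nonneg ha.le (Nat.cast_nonneg k))]
  refine Summable.of_nat_of_neg ?_ ?_ <;> simpa using h

theorem summable_exp_neg_mul_sum_sq : ∀ (n : ℕ) {a : ℝ}, 0 < a →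
    Summable fun x : Fin n → ℤ => Real.exp (-a * ∑ i, (x i : ℝ) ^ 2) := by
  intro n
  induction n with
  | zero => intro a ha; exact Summable.of_finite
  | succ n ih =>
    intro a ha
    rw [← (Fin.consEquiv fun _ : Fin (n + 1) => ℤ).summable_iff]
    have h : Summable fun p : ℤ × (Fin n → ℤ) =>
        Real.exp (-a * (p.1 : ℝ) ^ 2) * Real.exp (-a * ∑ i, (p.2 i : ℝ) ^ 2) :=
      (summable_exp_neg_mul_int_sq ha).mul_of_nonneg (ih ha) (fun _ => (Real.exp_pos _).le)
        (fun _ => (Real.exp_pos _).le)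
    refine h.congr fun p => ?_
    rw [← Real.exp_add, ← mul_add]
    simp [Fin.sum_univ_succ]

theorem norm_gauss (C : Matrix (Fin n) (Fin n) ℝ) (t : ℂ) (v : Fin n → ℝ) :
    ‖gauss C t v‖ = Real.exp (-(π * t.re) * qR C v) := by
  rw [gauss, Complex.norm_exp]
  simp [Complex.mul_re]

/-- A summable bound for the translates of the Gaussian, locally uniform. -/
theorem exists_bound (C : Matrix (Fin n) (Fin n) ℝ) (hC : C.det ≠ 0) (t : ℂ) (ht : 0 < t.re)
    (R : ℝ) : ∃ u : (Fin n → ℤ) → ℝ, Summable u ∧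
      ∀ v : Fin n → ℝ, (∀ i, |v i| ≤ R) → ∀ x, ‖gauss C t (v + castVec x)‖ ≤ u x := by
  obtain ⟨c, hc, hle⟩ := exists_sq_le C hC
  set a : ℝ := π * t.re * c with ha
  have ha0 : 0 < a := by positivity
  refine ⟨fun x => Real.exp (a * (n * R ^ 2)) * Real.exp (-(a / 2) * ∑ i, (x i : ℝ) ^ 2),
    (summable_exp_neg_mul_sum_sq n (half_pos ha0)).mul_left _, fun v hv x => ?_⟩
  dsimp only
  rw [norm_gauss, ← Real.exp_add]
  apply Real.exp_le_exp.mpr
  have h1 := hle (v + castVec x)
  have h2 : (∑ i, (x i : ℝ) ^ 2) / 2 - n * R ^ 2 ≤ ∑ i, (v + castVec x) i ^ 2 := by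
    have h3 : ∀ i, (x i : ℝ) ^ 2 / 2 - R ^ 2 ≤ (v + castVec x) i ^ 2 := fun i => by
      have := abs_le.mp (hv i)
      simp only [Pi.add_apply, castVec]
      nlinarith [sq_nonneg ((x i : ℝ) + 2 * v i)]
    have h4 := Finset.sum_le_sum (s := Finset.univ) fun i _ => h3 i
    rw [Finset.sum_sub_distrib, ← Finset.sum_div, Finset.sum_const, Finset.card_univ,
      Fintype.card_fin, nsmul_eq_mul] at h4
    exact h4
  have h5 : 0 < π * t.re := by positivity
  have h6 := mul_le_mul_of_nonneg_left (le_trans (mul_le_mul_of_nonneg_left h2 hc.le) h1) h5.le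
  rw [ha]
  nlinarith [h6]

/-- The periodisation of the Gaussian. -/
def periodised (C : Matrix (Fin n) (Fin n) ℝ) (t : ℂ) (v : Fin n → ℝ) : ℂ :=
  ∑' x : Fin n → ℤ, gauss C t (v + castVec x)

theorem periodised_add (C : Matrix (Fin n) (Fin n) ℝ) (t : ℂ) (v : Fin n → ℝ) (k : Fin n → ℤ) :
    periodised C t (v + castVec k) = periodised C t v := by
  unfold periodised
  rw [← (Equiv.addLeft k).tsum_eq fun x => gauss C t (v + castVec x)]
  refine tsum_congr fun x => congrArg _ ?_
  funext i
  simp [castVec]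
  ring

theorem continuous_periodised (C : Matrix (Fin n) (Fin n) ℝ) (hC : C.det ≠ 0) (t : ℂ)
    (ht : 0 < t.re) : Continuous (periodised C t) := by
  rw [continuous_iff_continuousAt]
  intro v
  set R : ℝ := ‖v‖ + 1
  obtain ⟨u, hu, hb⟩ := exists_bound C hC t ht R
  refine (continuousOn_tsum (s := Metric.ball 0 R) (fun x => ?_) hu fun x w hw => ?_).continuousAt
    (Metric.isOpen_ball.mem_nhds (by simp [R]))
  · unfold gauss qR
    fun_prop
  · refine hb w (fun i => ?_) x
    exact le_trans (norm_le_pi_norm w i) (by simpa using (Metric.mem_ball.mp hw).le)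

/-- The unit box with lower corner `x`. -/
def box (x : Fin n → ℤ) : Set (Fin n → ℝ) :=
  {v | ∀ i, v i ∈ Set.Ioc (x i : ℝ) ((x i : ℝ) + 1)}

theorem box_eq_pi (x : Fin n → ℤ) :
    box x = Set.univ.pi fun i => Set.Ioc (x i : ℝ) ((x i : ℝ) + 1) := by
  ext v; simp only [box, Set.mem_setOf_eq, Set.mem_univ_pi]

theorem measurableSet_box (x : Fin n → ℤ) : MeasurableSet (box x) := by
  rw [box_eq_pi]; exact MeasurableSet.univ_pi fun i => measurableSet_Ioc

theorem pairwise_disjoint_box : Pairwise (Function.onFun Disjoint (box (n := n))) := by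
  intro x y hxy
  refine Set.disjoint_left.mpr fun v hx hy => hxy (funext fun i => ?_)
  obtain ⟨a, b⟩ := hx i
  obtain ⟨c, d⟩ := hy i
  have h1 : x i < y i + 1 := by exact_mod_cast (lt_of_lt_of_le a d)
  have h2 : y i < x i + 1 := by exact_mod_cast (lt_of_lt_of_le c b)
  omega

theorem iUnion_box : ⋃ x, box (n := n) x = Set.univ := by
  refine Set.eq_univ_of_forall fun v => Set.mem_iUnion.mpr ⟨fun i => ⌈v i⌉ - 1, fun i => ?_⟩
  have h1 := Int.ceil_lt_add_one (v i)
  have h2 := Int.le_ceil (v i)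
  push_cast
  constructor <;> linarith

/-- Integral of the Gaussian against a character. -/
theorem integral_gauss_mul (C : Matrix (Fin n) (Fin n) ℝ) (hC : |C.det| = 1) (t : ℂ)
    (ht : 0 < t.re) (k : Fin n → ℝ) :
    Integrable (fun v : Fin n → ℝ =>
        cexp (-(2 * π * I) * ∑ j, ((C *ᵥ k) j : ℂ) * ((C *ᵥ v) j : ℂ)) * gauss C t v) ∧
      ∫ v : Fin n → ℝ, cexp (-(2 * π * I) * ∑ j, ((C *ᵥ k) j : ℂ) * ((C *ᵥ v) j : ℂ)) * gauss C t v
        = (1 / t) ^ ((n : ℂ) / 2) * gauss C (1 / t) k := by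
  have hC0 : C.det ≠ 0 := fun h => by simp [h] at hC
  have hb : 0 < ((π : ℂ) * t).re := by simp only [Complex.re_ofReal_mul]; positivity
  set c : Fin n → ℂ := fun j => -(2 * π * I) * ((C *ᵥ k) j : ℂ) with hc
  set h : (Fin n → ℝ) → ℂ := fun w =>
    cexp (-((π : ℂ) * t) * ∑ i, (w i : ℂ) ^ 2 + ∑ i, c i * w i) with hh
  have hint : Integrable h := GaussianFourier.integrable_cexp_neg_mul_sum_add hb c
  have hval := GaussianFourier.integral_cexp_neg_mul_sum_add hb c
  set L : (Fin n → ℝ) → (Fin n → ℝ) := fun v => C *ᵥ v with hL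
  have hLc : Continuous L := by unfold L; fun_prop
  have hmap : Measure.map L volume = volume := by
    have := Real.map_matrix_volume_pi_eq_smul_volume_pi hC0
    rw [show ((Matrix.toLin' C : (Fin n → ℝ) →ₗ[ℝ] Fin n → ℝ) : (Fin n → ℝ) → Fin n → ℝ) = L from
      funext fun v => Matrix.toLin'_apply C v] at this
    rw [this, abs_inv, hC, inv_one, ENNReal.ofReal_one, one_smul]
  have heq : (fun v : Fin n → ℝ =>
      cexp (-(2 * π * I) * ∑ j, ((C *ᵥ k) j : ℂ) * ((C *ᵥ v) j : ℂ)) * gauss C t v) = h ∘ L := by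
    funext v
    simp only [Function.comp, hh, hL, hc, gauss, qR, ← Complex.exp_add]
    congr 1
    push_cast
    rw [Finset.mul_sum, add_comm]
    congr 1
    exact Finset.sum_congr rfl fun j _ => by ring
  rw [heq]
  refine ⟨?_, ?_⟩
  · exact (integrable_map_measure (hmap.symm ▸ hint.aestronglyMeasurable) hLc.aemeasurable).mp
      (hmap.symm ▸ hint)
  · have := integral_map (μ := volume) hLc.aemeasurable (f := h)
      (hmap.symm ▸ hint.aestronglyMeasurable)
    rw [hmap] at this
    rw [← show ∫ y, h y = ∫ x, (h ∘ L) x from this, hval, Fintype.card_fin]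
    have ht0 : t ≠ 0 := fun h0 => by simp [h0] at ht
    have hpi : (π : ℂ) ≠ 0 := by exact_mod_cast Real.pi_ne_zero
    congr 1
    · rw [div_mul_eq_div_div, div_self hpi]
    · rw [gauss]
      congr 1
      have hsum : ∑ i, c i ^ 2 = -(4 * π ^ 2) * (qR C k : ℂ) := by
        rw [qR, Complex.ofReal_sum, Finset.mul_sum]
        refine Finset.sum_congr rfl fun i _ => ?_
        simp only [hc, Complex.ofReal_pow]
        linear_combination (4 * (π : ℂ) ^ 2 * ((C *ᵥ k) i : ℂ) ^ 2) * Complex.I_sq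
      rw [hsum]
      field_simp

/-- The projection to the torus. -/
def toTorus (v : Fin n → ℝ) : UnitAddTorus (Fin n) := fun i => (v i : UnitAddCircle)

theorem isQuotientMap_toTorus : Topology.IsQuotientMap (toTorus (n := n)) :=
  (IsOpenQuotientMap.piMap fun _ => QuotientAddGroup.isOpenQuotientMap_mk).isQuotientMap

/-- Representatives in the unit box. -/
def rep (y : UnitAddTorus (Fin n)) : Fin n → ℝ := fun i => (AddCircle.equivIoc 1 0 (y i) : ℝ)

theorem exists_rep_eq (v : Fin n → ℝ) : ∃ k : Fin n → ℤ, rep (toTorus v) = v + castVec k := by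
  have h : ∀ i, ∃ m : ℤ, rep (toTorus v) i - v i = m := fun i => by
    have h1 : ((rep (toTorus v) i : ℝ) : UnitAddCircle) = (v i : UnitAddCircle) :=
      AddCircle.coe_equivIoc
    have h2 := QuotientAddGroup.eq_iff_sub_mem.mp h1
    obtain ⟨m, hm⟩ := AddSubgroup.mem_zmultiples_iff.mp h2
    exact ⟨m, by simpa using hm.symm⟩
  choose k hk using h
  exact ⟨k, funext fun i => by simp only [Pi.add_apply, castVec]; linarith [hk i]⟩

theorem periodised_rep (C : Matrix (Fin n) (Fin n) ℝ) (t : ℂ) (v : Fin n → ℝ) :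
    periodised C t (rep (toTorus v)) = periodised C t v := by
  obtain ⟨k, hk⟩ := exists_rep_eq v
  rw [hk, periodised_add]

set_option maxHeartbeats 1000000 in
/-- Poisson summation for the Gaussian of a unimodular integral form. -/
theorem poisson (B : Matrix (Fin n) (Fin n) ℤ) (hB : IsUnit B.det)
    (C : Matrix (Fin n) (Fin n) ℝ) (hBC : B.map (Int.cast : ℤ → ℝ) = Cᵀ * C)
    (hC : |C.det| = 1) (t : ℂ) (ht : 0 < t.re) :
    ∑' x : Fin n → ℤ, gauss C t (castVec x) =
      (1 / t) ^ ((n : ℂ) / 2) * ∑' x : Fin n → ℤ, gauss C (1 / t) (castVec x) := by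
  have hC0 : C.det ≠ 0 := fun h => by simp [h] at hC
  let F : C(UnitAddTorus (Fin n), ℂ) := ⟨fun y => periodised C t (rep y),
    isQuotientMap_toTorus.continuous_iff.mpr (by
      rw [show (fun y => periodised C t (rep y)) ∘ toTorus = periodised C t from
        funext (periodised_rep C t)]
      exact continuous_periodised C hC0 t ht)⟩
  -- the Fourier coefficients
  have hpair : ∀ (k : Fin n → ℤ) (v : Fin n → ℝ),
      UnitAddTorus.mFourier (-(B *ᵥ k)) (toTorus v) =
        cexp (-(2 * π * I) * ∑ j, ((C *ᵥ castVec k) j : ℂ) * ((C *ᵥ v) j : ℂ)) := by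
    intro k v
    have h1 : ∑ i, ((B *ᵥ k) i : ℝ) * v i = ∑ j, (C *ᵥ castVec k) j * (C *ᵥ v) j := by
      have h2 : (fun i => ((B *ᵥ k) i : ℝ)) = Cᵀ *ᵥ (C *ᵥ castVec k) := by
        rw [Matrix.mulVec_mulVec, ← hBC]
        funext i
        simp [Matrix.mulVec, dotProduct, castVec]
      show (fun i => ((B *ᵥ k) i : ℝ)) ⬝ᵥ v = (C *ᵥ castVec k) ⬝ᵥ (C *ᵥ v)
      rw [h2, Matrix.mulVec_transpose, ← Matrix.dotProduct_mulVec]
    simp only [UnitAddTorus.mFourier, ContinuousMap.coe_mk, toTorus, fourier_coe_apply,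
      ← Complex.exp_sum, Pi.neg_apply]
    congr 1
    have h3 : (∑ i, ((B *ᵥ k) i : ℂ) * (v i : ℂ)) =
        ∑ j, ((C *ᵥ castVec k) j : ℂ) * ((C *ᵥ v) j : ℂ) := by exact_mod_cast h1
    rw [← h3, Finset.mul_sum]
    exact Finset.sum_congr rfl fun i _ => by push_cast; ring
  have hcoef : ∀ k : Fin n → ℤ, UnitAddTorus.mFourierCoeff F (B *ᵥ k) =
      (1 / t) ^ ((n : ℂ) / 2) * gauss C (1 / t) (castVec k) := by
    intro k
    obtain ⟨hint, hval⟩ := integral_gauss_mul C hC t ht (castVec k)
    set e : (Fin n → ℝ) → ℂ := fun v =>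
      cexp (-(2 * π * I) * ∑ j, ((C *ᵥ castVec k) j : ℂ) * ((C *ᵥ v) j : ℂ)) with he
    have hnorm : ∀ v, ‖e v‖ = 1 := fun v => by
      have : ∀ j, (((C *ᵥ castVec k) j : ℂ) * ((C *ᵥ v) j : ℂ)).im = 0 := fun j => by simp
      rw [he, Complex.norm_exp]
      simp [Complex.mul_re, Complex.im_sum, this]
    have heper : ∀ v x, e (v + castVec x) = e v := fun v x => by
      have hp := hpair k
      simp only [he, ← hp]
      congr 1
      funext i
      simp only [toTorus, Pi.add_apply, castVec]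
      exact (QuotientAddGroup.eq_iff_sub_mem.mpr
        (AddSubgroup.mem_zmultiples_iff.mpr ⟨x i, by simp⟩))
    rw [UnitAddTorus.mFourierCoeff_eq_integral _ _ (fun _ => (0 : ℝ))]
    have hbox : {x : Fin n → ℝ | ∀ i, x i ∈ Set.Ioc ((fun _ => (0 : ℝ)) i) ((fun _ => (0 : ℝ)) i + 1)}
        = box (0 : Fin n → ℤ) := by
      ext v; simp [box]
    rw [hbox]
    have hfun : (fun v : Fin n → ℝ => UnitAddTorus.mFourier (-(B *ᵥ k)) (fun i => (v i : UnitAddCircle))
        • F (fun i => (v i : UnitAddCircle))) = fun v => ∑' x, e v * gauss C t (v + castVec x) := by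
      funext v
      show UnitAddTorus.mFourier (-(B *ᵥ k)) (toTorus v) • periodised C t (rep (toTorus v)) = _
      rw [periodised_rep, hpair, smul_eq_mul, periodised, ← tsum_mul_left]
    rw [hfun]
    haveI : IsFiniteMeasure (volume.restrict (box (0 : Fin n → ℤ))) := by
      constructor
      rw [Measure.restrict_apply_univ, box_eq_pi, volume_pi_pi]
      simp
    obtain ⟨u, hu, hb⟩ := exists_bound C hC0 t ht 1
    have hbd : ∀ x, ∀ v ∈ box (0 : Fin n → ℤ), ‖e v * gauss C t (v + castVec x)‖ ≤ u x := by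
      intro x v hv
      rw [norm_mul, hnorm, one_mul]
      refine hb v (fun i => abs_le.mpr ?_) x
      have := hv i
      simp at this
      constructor <;> linarith [this.1, this.2]
    have hcont : ∀ x : Fin n → ℤ, Continuous fun v => e v * gauss C t (v + castVec x) := fun x => by
      simp only [he, gauss, qR]; fun_prop
    have hintx : ∀ x, Integrable (fun v => e v * gauss C t (v + castVec x))
        (volume.restrict (box (0 : Fin n → ℤ))) := fun x =>
      Integrable.of_bound (hcont x).aestronglyMeasurable (u x)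
        ((ae_restrict_iff' (measurableSet_box _)).mpr (ae_of_all _ (hbd x)))
    rw [← integral_tsum_of_summable_integral_norm hintx (by
      refine Summable.of_nonneg_of_le (fun x => integral_nonneg fun v => norm_nonneg _) (fun x => ?_)
        (hu.mul_right (volume.real (box (0 : Fin n → ℤ))))
      refine le_trans (le_abs_self _) ?_
      rw [← Real.norm_eq_abs]
      refine norm_setIntegral_le_of_norm_le_const ?_ fun v hv => ?_
      · rw [box_eq_pi, volume_pi_pi]; simp
      · rw [norm_norm]; exact hbd x v hv)]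
    have hshift : ∀ x, ∫ v in box (0 : Fin n → ℤ), e v * gauss C t (v + castVec x) =
        ∫ v in box x, e v * gauss C t v := by
      intro x
      have h := (measurePreserving_add_right volume (castVec x)).setIntegral_preimage_emb
        (measurableEmbedding_addRight (castVec x)) (fun v => e v * gauss C t v) (box x)
      have hpre : (fun v : Fin n → ℝ => v + castVec x) ⁻¹' box x = box 0 := by
        ext v
        simp only [box, Set.mem_setOf_eq, Set.mem_preimage, Pi.add_apply, castVec, Set.mem_Ioc,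
          Pi.zero_apply, Int.cast_zero]
        exact forall_congr' fun i => by constructor <;> rintro ⟨a, b⟩ <;> constructor <;> linarith
      rw [← h, hpre]
      exact setIntegral_congr_fun (measurableSet_box _) fun v _ => by simp only [heper]
    rw [tsum_congr hshift]
    have hU := hasSum_integral_iUnion (μ := volume) (fun x => measurableSet_box x)
      (pairwise_disjoint_box (n := n)) (hint.integrableOn)
    rw [iUnion_box, setIntegral_univ, hval] at hU
    exact hU.tsum_eq
  let eB : (Fin n → ℤ) ≃ (Fin n → ℤ) :=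
    { toFun := fun k => B *ᵥ k
      invFun := fun m => B⁻¹ *ᵥ m
      left_inv := fun k => by simp [Matrix.mulVec_mulVec, Matrix.nonsing_inv_mul B hB]
      right_inv := fun m => by simp [Matrix.mulVec_mulVec, Matrix.mul_nonsing_inv B hB] }
  have ht' : 0 < (1 / t).re := by
    rw [one_div, Complex.inv_re]
    exact div_pos ht (Complex.normSq_pos.mpr fun h0 => by simp [h0] at ht)
  have hsum : Summable (UnitAddTorus.mFourierCoeff F) := by
    rw [← eB.summable_iff]
    obtain ⟨u, hu, hb⟩ := exists_bound C hC0 (1 / t) ht' 0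
    have hs : Summable fun x : Fin n → ℤ => gauss C (1 / t) (castVec x) :=
      Summable.of_norm_bounded hu fun x => by simpa using hb 0 (fun i => by simp) x
    refine (hs.mul_left ((1 / t) ^ ((n : ℂ) / 2))).congr fun k => ?_
    show _ = UnitAddTorus.mFourierCoeff F (B *ᵥ k)
    rw [hcoef k]
  have h0 := (UnitAddTorus.hasSum_mFourier_series_apply_of_summable hsum (toTorus 0)).tsum_eq
  have hF0 : F (toTorus 0) = ∑' x : Fin n → ℤ, gauss C t (castVec x) := by
    show periodised C t (rep (toTorus 0)) = _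
    rw [periodised_rep, periodised]
    simp
  rw [← hF0, ← h0, ← tsum_mul_left, ← eB.tsum_eq]
  refine tsum_congr fun k => ?_
  show UnitAddTorus.mFourierCoeff F (B *ᵥ k) • UnitAddTorus.mFourier (B *ᵥ k) (toTorus 0) = _
  rw [hcoef k, smul_eq_mul]
  simp [UnitAddTorus.mFourier, toTorus]

end Cfsg.Agent.Theta
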